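import Cfsg.Prelude.Def_G2

/-!
# The Zorn algebra as a doubled quaternion algebra

The automorphism `(a, b) ↦ (a, -b)` of the doubled algebra is an involution of `G₂`, and its
centralizer is generated by a copy of `SL₂` and a copy of `PGL₂`.
-/

set_option autoImplicit false
set_option linter.style.longLine false

namespace Cfsg.Agent.BC85.G2

open Matrix
open scoped MatrixGroups

variable {F : Type*} [Field F]

/-- The coordinates of a pair of quaternions. -/
def enc : (Matrix (Fin 2) (Fin 2) F × Matrix (Fin 2) (Fin 2) F) ≃ₗ[F] (Fin 8 → F) where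
  toFun u := ![u.1 0 0, u.1 0 1, u.2 0 0, -u.2 1 0, u.1 1 0, u.2 1 1, u.2 0 1, u.1 1 1]
  invFun x := (!![x 0, x 1; x 4, x 7], !![x 2, x 6; -x 3, x 5])
  map_add' u v := by ext i; fin_cases i <;> simp [add_comm]
  map_smul' c u := by ext i; fin_cases i <;> simp
  left_inv u := by
    refine Prod.ext ?_ ?_ <;> ext i j <;> fin_cases i <;> fin_cases j <;> simp
  right_inv x := by ext i; fin_cases i <;> simp

/-- The product of the doubled algebra. -/
def dmul (u v : Matrix (Fin 2) (Fin 2) F × Matrix (Fin 2) (Fin 2) F) :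
    Matrix (Fin 2) (Fin 2) F × Matrix (Fin 2) (Fin 2) F :=
  (u.1 * v.1 + adjugate v.2 * u.2, v.2 * u.1 + u.2 * adjugate v.1)

theorem zornMul_enc (u v : Matrix (Fin 2) (Fin 2) F × Matrix (Fin 2) (Fin 2) F) :
    Cfsg.Lie.zornMul (enc u) (enc v) = enc (dmul u v) := by
  obtain ⟨a, b⟩ := u
  obtain ⟨c, d⟩ := v
  ext i
  fin_cases i <;>
    simp [enc, dmul, Cfsg.Lie.zornMul, Cfsg.Lie.zA, Cfsg.Lie.zB, Cfsg.Lie.dot3, Cfsg.Lie.cross3,
      Matrix.adjugate_fin_two, Matrix.mul_apply, Matrix.vecMul, dotProduct, Fin.sum_univ_two] <;> ring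

theorem adjugate_eq (b : Matrix (Fin 2) (Fin 2) F) : adjugate b = trace b • 1 - b := by
  rw [adjugate_fin_two, trace_fin_two]
  ext i j
  fin_cases i <;> fin_cases j <;> simp

theorem adjugate_conj (g : GL (Fin 2) F) (b : Matrix (Fin 2) (Fin 2) F) :
    adjugate ((g : Matrix (Fin 2) (Fin 2) F) * b * (↑g⁻¹ : Matrix (Fin 2) (Fin 2) F)) =
      (g : Matrix (Fin 2) (Fin 2) F) * adjugate b * (↑g⁻¹ : Matrix (Fin 2) (Fin 2) F) := by
  rw [adjugate_eq, adjugate_eq, Matrix.trace_units_conj]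
  simp [mul_sub, sub_mul]

theorem adjugate_mul_sl (p : SL(2, F)) : adjugate (p : Matrix (Fin 2) (Fin 2) F) * (p : Matrix (Fin 2) (Fin 2) F) = 1 := by
  rw [adjugate_mul, p.det_coe, one_smul]

/-- An endomorphism of the doubled algebra, in coordinates. -/
noncomputable def toCoord : Module.End F (Matrix (Fin 2) (Fin 2) F × Matrix (Fin 2) (Fin 2) F) →*
    Matrix (Fin 8) (Fin 8) F where
  toFun L := LinearMap.toMatrix' (enc.toLinearMap ∘ₗ L ∘ₗ enc.symm.toLinearMap)
  map_one' := by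
    rw [← LinearMap.toMatrix'_id]
    congr 1
    exact LinearMap.ext fun x => enc.apply_symm_apply x
  map_mul' L L' := by
    rw [← LinearMap.toMatrix'_comp]
    congr 1
    exact LinearMap.ext fun x => by simp

theorem toCoord_mulVec (L : Module.End F (Matrix (Fin 2) (Fin 2) F × Matrix (Fin 2) (Fin 2) F))
    (x : Fin 8 → F) : toCoord L *ᵥ x = enc (L (enc.symm x)) := by
  show LinearMap.toMatrix' _ *ᵥ x = _
  rw [LinearMap.toMatrix'_mulVec]
  rfl

/-- Automorphisms of the doubled algebra give elements of `G₂`. -/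
noncomputable def toG2 {K : Type*} [Group K]
    (r : K →* Module.End F (Matrix (Fin 2) (Fin 2) F × Matrix (Fin 2) (Fin 2) F))
    (hr : ∀ k u v, r k (dmul u v) = dmul (r k u) (r k v)) : K →* Cfsg.Lie.G2 F :=
  MonoidHom.codRestrict (toCoord.comp r).toHomUnits _ fun k x y => by
    show toCoord (r k) *ᵥ Cfsg.Lie.zornMul x y =
      Cfsg.Lie.zornMul (toCoord (r k) *ᵥ x) (toCoord (r k) *ᵥ y)
    rw [toCoord_mulVec, toCoord_mulVec, toCoord_mulVec, zornMul_enc, ← hr, ← enc.apply_symm_apply x,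
      ← enc.apply_symm_apply y, zornMul_enc]
    simp

/-- An element of `G₂` acting on the doubled algebra. -/
noncomputable def act (φ : Cfsg.Lie.G2 F) :
    Module.End F (Matrix (Fin 2) (Fin 2) F × Matrix (Fin 2) (Fin 2) F) :=
  enc.symm.toLinearMap ∘ₗ Matrix.toLin' (((φ : GL (Fin 8) F) : Matrix (Fin 8) (Fin 8) F)) ∘ₗ enc.toLinearMap

theorem act_dmul (φ : Cfsg.Lie.G2 F) (u v : Matrix (Fin 2) (Fin 2) F × Matrix (Fin 2) (Fin 2) F) :
    act φ (dmul u v) = dmul (act φ u) (act φ v) := by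
  apply enc.injective
  simp only [act, LinearMap.comp_apply, LinearEquiv.coe_coe, LinearEquiv.apply_symm_apply,
    Matrix.toLin'_apply, ← zornMul_enc]
  exact φ.2 (enc u) (enc v)

theorem act_mul (φ ψ : Cfsg.Lie.G2 F) (u : Matrix (Fin 2) (Fin 2) F × Matrix (Fin 2) (Fin 2) F) :
    act (φ * ψ) u = act φ (act ψ u) := by
  simp [act]

theorem act_injective : Function.Injective (act (F := F)) := by
  intro φ ψ h
  have h' : Matrix.toLin' (((φ : GL (Fin 8) F) : Matrix (Fin 8) (Fin 8) F)) =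
      Matrix.toLin' (((ψ : GL (Fin 8) F) : Matrix (Fin 8) (Fin 8) F)) := by
    refine LinearMap.ext fun x => ?_
    have := congrArg enc (LinearMap.congr_fun h (enc.symm x))
    simpa [act] using this
  exact Subtype.ext (Units.ext (Matrix.toLin'.injective h'))

theorem act_bijective (φ : Cfsg.Lie.G2 F) : Function.Bijective (act φ) := by
  refine Function.bijective_iff_has_inverse.mpr ⟨act φ⁻¹, fun u => ?_, fun u => ?_⟩ <;>
    rw [← act_mul] <;> simp [act]

theorem act_toG2 {K : Type*} [Group K]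
    (r : K →* Module.End F (Matrix (Fin 2) (Fin 2) F × Matrix (Fin 2) (Fin 2) F))
    (hr : ∀ k u v, r k (dmul u v) = dmul (r k u) (r k v)) (k : K) : act (toG2 r hr k) = r k := by
  refine LinearMap.ext fun u => ?_
  show enc.symm (toCoord (r k) *ᵥ enc u) = _
  rw [toCoord_mulVec]
  simp

/-- The action of `SL₂` on the second summand. -/
noncomputable def iotaEnd : SL(2, F) →*
    Module.End F (Matrix (Fin 2) (Fin 2) F × Matrix (Fin 2) (Fin 2) F) where
  toFun p := LinearMap.prodMap LinearMap.id (LinearMap.mulLeft F (p : Matrix (Fin 2) (Fin 2) F))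
  map_one' := LinearMap.ext fun u => by simp
  map_mul' p p' := LinearMap.ext fun u => by simp [mul_assoc]

theorem iotaEnd_dmul (p : SL(2, F)) (u v : Matrix (Fin 2) (Fin 2) F × Matrix (Fin 2) (Fin 2) F) :
    iotaEnd p (dmul u v) = dmul (iotaEnd p u) (iotaEnd p v) := by
  refine Prod.ext ?_ ?_
  · show u.1 * v.1 + adjugate v.2 * u.2 =
      u.1 * v.1 + adjugate ((p : Matrix (Fin 2) (Fin 2) F) * v.2) * ((p : Matrix (Fin 2) (Fin 2) F) * u.2)
    rw [adjugate_mul_distrib, mul_assoc, ← mul_assoc (adjugate (p : Matrix (Fin 2) (Fin 2) F)),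
      adjugate_mul_sl, one_mul]
  · simp [iotaEnd, dmul, mul_add, mul_assoc]

/-- The copy of `SL₂`. -/
noncomputable def iota : SL(2, F) →* Cfsg.Lie.G2 F := toG2 iotaEnd iotaEnd_dmul

/-- Simultaneous conjugation of both summands. -/
noncomputable def tauEnd : GL (Fin 2) F →*
    Module.End F (Matrix (Fin 2) (Fin 2) F × Matrix (Fin 2) (Fin 2) F) where
  toFun g := LinearMap.prodMap
    (LinearMap.mulLeftRight F ((g : Matrix (Fin 2) (Fin 2) F), (↑g⁻¹ : Matrix (Fin 2) (Fin 2) F)))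
    (LinearMap.mulLeftRight F ((g : Matrix (Fin 2) (Fin 2) F), (↑g⁻¹ : Matrix (Fin 2) (Fin 2) F)))
  map_one' := LinearMap.ext fun u => by simp
  map_mul' g g' := LinearMap.ext fun u => by simp [mul_assoc]

theorem tauEnd_dmul (g : GL (Fin 2) F) (u v : Matrix (Fin 2) (Fin 2) F × Matrix (Fin 2) (Fin 2) F) :
    tauEnd g (dmul u v) = dmul (tauEnd g u) (tauEnd g v) := by
  refine Prod.ext ?_ ?_ <;>
    simp only [tauEnd, dmul, MonoidHom.coe_mk, OneHom.coe_mk, LinearMap.prodMap_apply,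
      LinearMap.mulLeftRight_apply, adjugate_conj, mul_add, add_mul] <;>
    simp only [mul_assoc, Units.inv_mul_cancel_left]

theorem tauEnd_scalar :
    (toG2 (F := F) tauEnd tauEnd_dmul).comp (GeneralLinearGroup.scalar (Fin 2)) = 1 := by
  refine MonoidHom.ext fun c => act_injective ?_
  rw [MonoidHom.comp_apply, act_toG2]
  refine LinearMap.ext fun u => ?_
  have h : (↑(GeneralLinearGroup.scalar (Fin 2) c)⁻¹ : Matrix (Fin 2) (Fin 2) F) =
      Matrix.scalar (Fin 2) ((c⁻¹ : Fˣ) : F) := by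
    rw [← map_inv, GeneralLinearGroup.coe_scalar]
  simp only [tauEnd, MonoidHom.coe_mk, OneHom.coe_mk, LinearMap.prodMap_apply,
    LinearMap.mulLeftRight_apply, h, GeneralLinearGroup.coe_scalar, Matrix.scalar_apply,
    ← Matrix.smul_one_eq_diagonal, smul_mul_assoc, one_mul, mul_smul_comm, mul_one, smul_smul,
    Units.mul_inv, Units.inv_mul, one_smul]
  simp [act]

/-- The copy of `PGL₂`. -/
noncomputable def tau : PGL(2, F) →* Cfsg.Lie.G2 F :=
  ProjGenLinGroup.lift (toG2 tauEnd tauEnd_dmul) tauEnd_scalar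

theorem act_iota (p : SL(2, F)) (u : Matrix (Fin 2) (Fin 2) F × Matrix (Fin 2) (Fin 2) F) :
    act (iota p) u = (u.1, (p : Matrix (Fin 2) (Fin 2) F) * u.2) := by
  rw [iota, act_toG2]; rfl

theorem act_tau (g : GL (Fin 2) F) (u : Matrix (Fin 2) (Fin 2) F × Matrix (Fin 2) (Fin 2) F) :
    act (tau (ProjGenLinGroup.mk g)) u =
      ((g : Matrix (Fin 2) (Fin 2) F) * u.1 * (↑g⁻¹ : Matrix (Fin 2) (Fin 2) F),
       (g : Matrix (Fin 2) (Fin 2) F) * u.2 * (↑g⁻¹ : Matrix (Fin 2) (Fin 2) F)) := by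
  rw [tau, ProjGenLinGroup.lift_mk, act_toG2]; rfl

/-- Conjugating `SL₂` by `GL₂`. -/
def conjSL (g : GL (Fin 2) F) (p : SL(2, F)) : SL(2, F) :=
  ⟨(g : Matrix (Fin 2) (Fin 2) F) * (p : Matrix (Fin 2) (Fin 2) F) * (↑g⁻¹ : Matrix (Fin 2) (Fin 2) F),
    by rw [Matrix.det_units_conj, p.det_coe]⟩

theorem toPGL_conjSL (g : GL (Fin 2) F) (p : SL(2, F)) :
    SpecialLinearGroup.toPGL (conjSL g p) = ProjGenLinGroup.mk g * SpecialLinearGroup.toPGL p * (ProjGenLinGroup.mk g)⁻¹ := by
  rw [← map_inv]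
  show ProjGenLinGroup.mk _ = ProjGenLinGroup.mk g * ProjGenLinGroup.mk _ * ProjGenLinGroup.mk g⁻¹
  rw [← map_mul, ← map_mul]
  refine congrArg _ (Units.ext ?_)
  show (g : Matrix (Fin 2) (Fin 2) F) * _ * _ = _
  simp

theorem tau_iota (g : GL (Fin 2) F) (p : SL(2, F)) :
    tau (ProjGenLinGroup.mk g) * iota p * (tau (ProjGenLinGroup.mk g))⁻¹ = iota (conjSL g p) := by
  rw [mul_inv_eq_iff_eq_mul]
  refine act_injective (LinearMap.ext fun u => ?_)
  rw [act_mul, act_mul, act_iota, act_tau, act_tau, act_iota]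
  simp [conjSL, mul_assoc]

theorem commute_scalar {g : GL (Fin 2) F}
    (h : ∀ a : Matrix (Fin 2) (Fin 2) F, (g : Matrix (Fin 2) (Fin 2) F) * a = a * g) :
    ProjGenLinGroup.mk g = 1 :=
  ProjGenLinGroup.mk_eq_one.mpr (Subgroup.mem_center_iff.mpr fun x => Units.ext (h x).symm)

theorem iota_mul_tau_inj {p p' : SL(2, F)} {c c' : PGL(2, F)}
    (h : iota p * tau c = iota p' * tau c') : p = p' ∧ c = c' := by
  have h1 : iota (p'⁻¹ * p) = tau (c' * c⁻¹) := by
    rw [map_mul, map_mul, map_inv, map_inv, inv_mul_eq_iff_eq_mul, ← mul_assoc, eq_mul_inv_iff_mul_eq]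
    exact h
  obtain ⟨g, hg⟩ := ProjGenLinGroup.mk_surjective (c' * c⁻¹)
  have key : ∀ u, act (iota (p'⁻¹ * p)) u = act (tau (c' * c⁻¹)) u := fun u => by rw [h1]
  simp only [← hg, act_iota, act_tau] at key
  have hc : ProjGenLinGroup.mk g = 1 := commute_scalar fun a => by
    have := congrArg Prod.fst (key (a, 0))
    simp only at this
    conv_rhs => rw [this]
    simp [mul_assoc]
  have hp : p'⁻¹ * p = 1 := by
    have := congrArg Prod.snd (key (0, 1))
    simp only [mul_one, Units.mul_inv] at this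
    exact Subtype.ext this
  rw [hg, mul_inv_eq_one] at hc
  exact ⟨(inv_mul_eq_one.mp hp).symm, hc.symm⟩

/-- The involution. -/
noncomputable def z₀ : Cfsg.Lie.G2 F := iota (-1)

theorem act_z₀ (u : Matrix (Fin 2) (Fin 2) F × Matrix (Fin 2) (Fin 2) F) :
    act (z₀ (F := F)) u = (u.1, -u.2) := by
  rw [z₀, act_iota]; simp

theorem z₀_mul_self : z₀ (F := F) * z₀ = 1 := by
  rw [z₀, ← map_mul, neg_mul_neg, one_mul, map_one]

theorem z₀_ne_one (h2 : (2 : F) ≠ 0) : z₀ (F := F) ≠ 1 := by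
  intro h
  have h1 : (-1 : SL(2, F)) = 1 := (iota_mul_tau_inj (p := -1) (p' := 1) (c := 1) (c' := 1)
    (by rw [map_one, map_one, mul_one, mul_one]; exact h)).1
  have h' := congrArg (fun A : SL(2, F) => (A : Matrix (Fin 2) (Fin 2) F) 0 0) h1
  simp at h'
  exact h2 (by linear_combination -h')

theorem iota_tau_mem_centralizer (p : SL(2, F)) (c : PGL(2, F)) :
    iota p * tau c ∈ Subgroup.centralizer ({z₀} : Set (Cfsg.Lie.G2 F)) := by
  rw [Subgroup.mem_centralizer_singleton_iff]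
  obtain ⟨g, rfl⟩ := ProjGenLinGroup.mk_surjective c
  refine act_injective (LinearMap.ext fun u => ?_)
  simp [act_mul, act_iota, act_tau, act_z₀]

/-- The centralizer of the involution. -/
theorem exists_eq_iota_mul_tau (h2 : (2 : F) ≠ 0) {φ : Cfsg.Lie.G2 F}
    (hφ : φ ∈ Subgroup.centralizer ({z₀} : Set (Cfsg.Lie.G2 F))) :
    ∃ (p : SL(2, F)) (c : PGL(2, F)), φ = iota p * tau c := by
  have hcomm := fun u => congrArg (fun ψ => act ψ u) (Subgroup.mem_centralizer_singleton_iff.mp hφ)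
  simp only [act_mul, act_z₀] at hcomm
  have hneg : ∀ b : Matrix (Fin 2) (Fin 2) F, b = -b → b = 0 := fun b hb =>
    (smul_eq_zero_iff_right h2).mp (by rw [two_smul]; exact add_eq_zero_iff_eq_neg.mpr hb)
  have hfst : ∀ a, (act φ (a, 0)).2 = 0 := fun a => hneg _ (by
    have := congrArg Prod.snd (hcomm (a, 0))
    simpa using this)
  have hsnd : ∀ b, (act φ (0, b)).1 = 0 := fun b => hneg _ (by
    have := congrArg Prod.fst (hcomm (0, b))
    have h' : act φ (0, -b) = -act φ (0, b) := by rw [← map_neg]; simp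
    simp only [h', Prod.fst_neg] at this
    exact this.symm)
  set f : Module.End F (Matrix (Fin 2) (Fin 2) F) :=
    LinearMap.fst F _ _ ∘ₗ act φ ∘ₗ LinearMap.inl F _ _ with hf
  have hfa : ∀ a, act φ (a, 0) = (f a, 0) := fun a => Prod.ext rfl (hfst a)
  have hfm : ∀ a b, f (a * b) = f a * f b := by
    intro a b
    have h := act_dmul φ (a, 0) (b, 0)
    simp only [hfa, dmul, mul_zero, zero_mul, add_zero, adjugate_eq] at h
    simpa [dmul, hfa] using congrArg Prod.fst h
  have hfinj : Function.Injective f := fun a b hab => by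
    have : act φ (a, 0) = act φ (b, 0) := by rw [hfa, hfa, hab]
    exact congrArg Prod.fst ((act_bijective φ).1 this)
  have hfsur : Function.Surjective f := LinearMap.injective_iff_surjective.mp hfinj
  have hf1 : f 1 = 1 := by
    obtain ⟨a, ha⟩ := hfsur 1
    calc f 1 = f 1 * f a := by rw [ha, mul_one]
      _ = 1 := by rw [← hfm, one_mul, ha]
  let e : Matrix (Fin 2) (Fin 2) F ≃ₐ[F] Matrix (Fin 2) (Fin 2) F :=
    AlgEquiv.ofBijective (AlgHom.ofLinearMap f hf1 hfm) ⟨hfinj, hfsur⟩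
  obtain ⟨T, hT⟩ := (Matrix.toLinAlgEquiv'.symm.trans (e.trans Matrix.toLinAlgEquiv')).eq_linearEquivConjAlgEquiv
  set g : GL (Fin 2) F := Matrix.GeneralLinearGroup.toLin.symm
    (LinearMap.GeneralLinearGroup.ofLinearEquiv T) with hg
  have hgT : Matrix.toLin' (g : Matrix (Fin 2) (Fin 2) F) = T.toLinearMap := by
    have := congrArg Units.val (Matrix.GeneralLinearGroup.toLin.apply_symm_apply
      (LinearMap.GeneralLinearGroup.ofLinearEquiv T))
    exact this
  have hconj : ∀ a, f a = (g : Matrix (Fin 2) (Fin 2) F) * a * (↑g⁻¹ : Matrix (Fin 2) (Fin 2) F) := by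
    intro a
    rw [Units.eq_mul_inv_iff_mul_eq]
    apply Matrix.toLin'.injective
    rw [Matrix.toLin'_mul, Matrix.toLin'_mul, hgT]
    refine LinearMap.ext fun x => ?_
    have := LinearMap.congr_fun (AlgEquiv.congr_fun hT (Matrix.toLinAlgEquiv' a)) (T x)
    have he : e a = f a := rfl
    simpa [he, LinearEquiv.conjAlgEquiv_apply] using this
  set ψ := φ * (tau (ProjGenLinGroup.mk g))⁻¹ with hψ
  have hψa : ∀ a, act ψ (a, 0) = (a, 0) := by
    intro a
    rw [hψ, ← map_inv, ← map_inv, act_mul, act_tau, inv_inv]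
    simp only [mul_zero, zero_mul, hfa, hconj]
    simp [mul_assoc]
  have hψb : ∀ b, (act ψ (0, b)).1 = 0 := by
    intro b
    rw [hψ, ← map_inv, ← map_inv, act_mul, act_tau, inv_inv]
    simp only [mul_zero, zero_mul]
    exact hsnd _
  set P := (act ψ (0, 1)).2 with hP
  have hP1 : act ψ (0, 1) = (0, P) := Prod.ext (hψb 1) rfl
  have hψb' : ∀ b, act ψ (0, b) = (0, P * b) := by
    intro b
    have h := act_dmul ψ (b, 0) (0, 1)
    simp only [hψa, hP1, dmul, mul_zero, zero_mul, add_zero, zero_add, one_mul] at h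
    simpa using h
  have hdet : P.det = 1 := by
    have h := act_dmul ψ (0, 1) (0, 1)
    simp only [hP1, dmul, mul_zero, zero_mul, add_zero, zero_add, adjugate_one, one_mul] at h
    simp [hψa, adjugate_eq, adjugate_mul] at h
    have := congrFun (congrFun h.symm 0) 0
    simp [Matrix.mul_apply, Fin.sum_univ_two, Matrix.trace_fin_two] at this
    rw [Matrix.det_fin_two]
    linear_combination this
  obtain ⟨q, hq⟩ : ∃ q : SL(2, F), (q : Matrix (Fin 2) (Fin 2) F) = P := ⟨⟨P, hdet⟩, rfl⟩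
  refine ⟨q, ProjGenLinGroup.mk g, ?_⟩
  have hψeq : ψ = iota q := by
    refine act_injective (LinearMap.ext fun u => ?_)
    obtain ⟨a, b⟩ := u
    rw [act_iota, hq, show act ψ (a, b) = act ψ ((a, 0) + (0, b)) by simp, map_add, hψa, hψb']
    simp
  rw [← hψeq, hψ, inv_mul_cancel_right]

end Cfsg.Agent.BC85.G2
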