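import Cfsg.Agent.Lib.SylTwo.GLTwo

/-!
# Sylow 2-subgroups of `PGL₂(q)`, `q` odd

All their squares lie in the derived subgroup.
-/

set_option autoImplicit false
set_option linter.style.longLine false

namespace Cfsg.Agent.BC85.G2

open Matrix Cfsg.Agent.SylTwo
open scoped MatrixGroups

variable {F : Type*} [Field F] [Fintype F]

instance : Finite PGL(2, F) := Finite.of_surjective _ ProjGenLinGroup.mk_surjective

/-- An antidiagonal matrix. -/
def antiGL (a b : Fˣ) : GL (Fin 2) F :=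
  ⟨!![0, (a : F); (b : F), 0], !![0, ((b⁻¹ : Fˣ) : F); ((a⁻¹ : Fˣ) : F), 0],
    by simp [Matrix.mul_fin_two, Matrix.one_fin_two], by simp [Matrix.mul_fin_two, Matrix.one_fin_two]⟩

/-- A diagonal matrix. -/
def diagGL (a b : Fˣ) : GL (Fin 2) F :=
  ⟨!![(a : F), 0; 0, (b : F)], !![((a⁻¹ : Fˣ) : F), 0; 0, ((b⁻¹ : Fˣ) : F)],
    by simp [Matrix.mul_fin_two, Matrix.one_fin_two], by simp [Matrix.mul_fin_two, Matrix.one_fin_two]⟩

theorem anti_mul_anti (a b c d : Fˣ) : antiGL a b * antiGL c d = diagGL (a * d) (b * c) :=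
  Units.ext (by simp [antiGL, diagGL, Matrix.mul_fin_two])

theorem anti_mul_diag (a b c d : Fˣ) : antiGL a b * diagGL c d = antiGL (a * d) (b * c) :=
  Units.ext (by simp [antiGL, diagGL, Matrix.mul_fin_two])

theorem diag_mul_anti (a b c d : Fˣ) : diagGL a b * antiGL c d = antiGL (a * c) (b * d) :=
  Units.ext (by simp [antiGL, diagGL, Matrix.mul_fin_two])

theorem diag_mul_diag (a b c d : Fˣ) : diagGL a b * diagGL c d = diagGL (a * c) (b * d) :=
  Units.ext (by simp [diagGL, Matrix.mul_fin_two])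

theorem diag_one : diagGL (F := F) 1 1 = 1 :=
  Units.ext (by simp [diagGL, Matrix.one_fin_two])

theorem diag_inj {a b c d : Fˣ} (h : diagGL a b = diagGL c d) : a = c ∧ b = d :=
  ⟨Units.ext (congrArg (fun g : GL (Fin 2) F => (g : Matrix (Fin 2) (Fin 2) F) 0 0) h),
    Units.ext (congrArg (fun g : GL (Fin 2) F => (g : Matrix (Fin 2) (Fin 2) F) 1 1) h)⟩

theorem anti_inj {a b c d : Fˣ} (h : antiGL a b = antiGL c d) : a = c ∧ b = d :=
  ⟨Units.ext (congrArg (fun g : GL (Fin 2) F => (g : Matrix (Fin 2) (Fin 2) F) 0 1) h),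
    Units.ext (congrArg (fun g : GL (Fin 2) F => (g : Matrix (Fin 2) (Fin 2) F) 1 0) h)⟩

theorem diag_ne_anti (a b c d : Fˣ) : diagGL a b ≠ antiGL c d := fun h =>
  a.ne_zero (congrArg (fun g : GL (Fin 2) F => (g : Matrix (Fin 2) (Fin 2) F) 0 0) h)

/-- The monomial matrices with entries in a subgroup. -/
def mono (U : Subgroup Fˣ) : Subgroup (GL (Fin 2) F) where
  carrier := {g | ∃ a ∈ U, ∃ b ∈ U, g = diagGL a b ∨ g = antiGL a b}
  one_mem' := ⟨1, U.one_mem, 1, U.one_mem, Or.inl diag_one.symm⟩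
  mul_mem' := by
    rintro _ _ ⟨a, ha, b, hb, rfl | rfl⟩ ⟨c, hc, d, hd, rfl | rfl⟩
    · exact ⟨_, mul_mem ha hc, _, mul_mem hb hd, Or.inl (diag_mul_diag a b c d)⟩
    · exact ⟨_, mul_mem ha hc, _, mul_mem hb hd, Or.inr (diag_mul_anti a b c d)⟩
    · exact ⟨_, mul_mem ha hd, _, mul_mem hb hc, Or.inr (anti_mul_diag a b c d)⟩
    · exact ⟨_, mul_mem ha hd, _, mul_mem hb hc, Or.inl (anti_mul_anti a b c d)⟩
  inv_mem' := by
    rintro _ ⟨a, ha, b, hb, rfl | rfl⟩
    · refine ⟨a⁻¹, inv_mem ha, b⁻¹, inv_mem hb, Or.inl (inv_eq_of_mul_eq_one_right ?_)⟩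
      rw [diag_mul_diag, mul_inv_cancel, mul_inv_cancel, diag_one]
    · refine ⟨b⁻¹, inv_mem hb, a⁻¹, inv_mem ha, Or.inr (inv_eq_of_mul_eq_one_right ?_)⟩
      rw [anti_mul_anti, mul_inv_cancel, mul_inv_cancel, diag_one]

theorem natCard_mono (U : Subgroup Fˣ) : Nat.card (mono U) = 2 * (Nat.card U * Nat.card U) := by
  let f : Bool × U × U → mono U := fun x =>
    ⟨bif x.1 then diagGL x.2.1 x.2.2 else antiGL x.2.1 x.2.2,
      x.2.1, x.2.1.2, x.2.2, x.2.2.2, by
        rcases x with ⟨_ | _, a, b⟩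
        · exact Or.inr rfl
        · exact Or.inl rfl⟩
  have hf : Function.Bijective f := by
    constructor
    · rintro ⟨i, a, b⟩ ⟨j, c, d⟩ h
      have h' : (bif i then diagGL (a : Fˣ) b else antiGL (a : Fˣ) b) =
          bif j then diagGL (c : Fˣ) d else antiGL (c : Fˣ) d := congrArg Subtype.val h
      cases i <;> cases j <;> simp only [cond_true, cond_false] at h'
      · obtain ⟨h1, h2⟩ := anti_inj h'
        rw [Subtype.ext h1, Subtype.ext h2]
      · exact absurd h'.symm (diag_ne_anti _ _ _ _)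
      · exact absurd h' (diag_ne_anti _ _ _ _)
      · obtain ⟨h1, h2⟩ := diag_inj h'
        rw [Subtype.ext h1, Subtype.ext h2]
    · rintro ⟨g, a, ha, b, hb, rfl | rfl⟩
      · exact ⟨(true, ⟨a, ha⟩, ⟨b, hb⟩), rfl⟩
      · exact ⟨(false, ⟨a, ha⟩, ⟨b, hb⟩), rfl⟩
  rw [← Nat.card_eq_of_bijective f hf, Nat.card_prod, Nat.card_prod]
  simp

theorem exists_sqComm_sylow_PGL_one (hq : Fintype.card F % 4 = 1) :
    ∃ S : Sylow 2 PGL(2, F), SqComm ↥(S : Subgroup PGL(2, F)) := by
  haveI : Fact (Nat.Prime 2) := ⟨Nat.prime_two⟩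
  have hF : Odd (Fintype.card F) := Nat.odd_iff.2 (by omega)
  obtain ⟨U⟩ : Nonempty (Sylow 2 Fˣ) := inferInstance
  have hq1 : (Fintype.card F + 1).factorization 2 = 1 := by
    obtain ⟨r, hr⟩ : ∃ r, Fintype.card F + 1 = 2 * (2 * r + 1) :=
      ⟨(Fintype.card F - 1) / 4, by omega⟩
    rw [hr, Nat.factorization_mul (by omega) (by omega), Finsupp.add_apply,
      Nat.prime_two.factorization_self, Nat.factorization_eq_zero_of_not_dvd (by omega)]
  have hsq : (Fintype.card F ^ 2 - 1).factorization 2 = (Fintype.card F - 1).factorization 2 + 1 := by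
    have h2 := two_le_card (F := F)
    rw [show Fintype.card F ^ 2 - 1 = (Fintype.card F + 1) * (Fintype.card F - 1) by
      rw [← Nat.sq_sub_sq, one_pow], Nat.factorization_mul (by omega) (by omega), Finsupp.add_apply, hq1]
    ring
  have hcard : Nat.card (mono (U : Subgroup Fˣ)) = 2 ^ (Nat.card (GL (Fin 2) F)).factorization 2 := by
    rw [natCard_mono, U.card_eq_multiplicity, LinearGroup.natCard_units_field,
      LinearGroup.card_GL_eq_units_mul_SL, Nat.factorization_mul Nat.card_pos.ne' Nat.card_pos.ne',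
      Finsupp.add_apply, factorization_card_SL_two hF, LinearGroup.natCard_units_field,
      Nat.card_eq_fintype_card, hsq]
    ring
  let W : Sylow 2 (GL (Fin 2) F) := Sylow.ofCard _ hcard
  refine ⟨W.mapSurjective ProjGenLinGroup.mk_surjective, ?_⟩
  have hW : (W.mapSurjective ProjGenLinGroup.mk_surjective : Subgroup PGL(2, F)) =
      (mono (U : Subgroup Fˣ)).map ProjGenLinGroup.mk := by
    rw [Sylow.coe_mapSurjective, Sylow.coe_ofCard]
  set φ := (ProjGenLinGroup.mk (n := Fin 2) (R := F)).subgroupMap (mono (U : Subgroup Fˣ))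
  refine sqComm_congr (MulEquiv.subgroupCongr hW).symm (sqComm_of_closure
    (φ '' {g | ∃ a b : Fˣ, (g : GL (Fin 2) F) = antiGL a b}) ?_ ?_)
  · rw [← MonoidHom.map_closure, eq_top_iff]
    rintro y -
    obtain ⟨⟨g, a, ha, b, hb, hg⟩, rfl⟩ := MonoidHom.subgroupMap_surjective _ _ y
    refine ⟨⟨g, a, ha, b, hb, hg⟩, ?_, rfl⟩
    rcases hg with rfl | rfl
    · have e : diagGL a b = antiGL a b * antiGL 1 1 := by rw [anti_mul_anti, mul_one, mul_one]
      have h : (⟨antiGL a b, a, ha, b, hb, Or.inr rfl⟩ : mono (U : Subgroup Fˣ)) *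
          ⟨antiGL 1 1, 1, one_mem _, 1, one_mem _, Or.inr rfl⟩ ∈
          Subgroup.closure {g : mono (U : Subgroup Fˣ) | ∃ a b : Fˣ, (g : GL (Fin 2) F) = antiGL a b} :=
        mul_mem (Subgroup.subset_closure ⟨_, _, rfl⟩) (Subgroup.subset_closure ⟨_, _, rfl⟩)
      have hE : ∀ x y : mono (U : Subgroup Fˣ), (x : GL (Fin 2) F) = y → y ∈ Subgroup.closure
          {g : mono (U : Subgroup Fˣ) | ∃ a b : Fˣ, (g : GL (Fin 2) F) = antiGL a b} →
          x ∈ Subgroup.closure {g : mono (U : Subgroup Fˣ) | ∃ a b : Fˣ, (g : GL (Fin 2) F) = antiGL a b} :=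
        fun x y hxy hy => Subtype.ext hxy ▸ hy
      exact hE _ _ e h
    · exact Subgroup.subset_closure ⟨a, b, rfl⟩
  · rintro _ ⟨g, ⟨a, b, hab⟩, rfl⟩
    have hz : antiGL a b * antiGL a b = GeneralLinearGroup.scalar (Fin 2) (a * b) := by
      rw [anti_mul_anti, mul_comm b a]
      refine Units.ext ?_
      ext i j
      fin_cases i <;> fin_cases j <;> simp [diagGL]
    have : φ g ^ 2 = 1 := Subtype.ext (by
      rw [Subgroup.coe_pow, pow_two]
      show ProjGenLinGroup.mk (g : GL (Fin 2) F) * ProjGenLinGroup.mk (g : GL (Fin 2) F) = 1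
      rw [← map_mul, hab, hz, ProjGenLinGroup.mk_scalar])
    rw [this]
    exact one_mem _

/-- All squares in a Sylow 2-subgroup of `PGL₂(q)` are in its derived subgroup. -/
theorem sqComm_sylow_PGL (hF : Odd (Fintype.card F)) (S : Sylow 2 PGL(2, F)) :
    SqComm ↥(S : Subgroup PGL(2, F)) := by
  haveI : Fact (Nat.Prime 2) := ⟨Nat.prime_two⟩
  obtain ⟨S₀, hS₀⟩ : ∃ S : Sylow 2 PGL(2, F), SqComm ↥(S : Subgroup PGL(2, F)) := by
    rcases (by rw [Nat.odd_iff] at hF; omega : Fintype.card F % 4 = 1 ∨ Fintype.card F % 4 = 3) with h | h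
    · exact exists_sqComm_sylow_PGL_one h
    · obtain ⟨W, -, hWc, hWs, -⟩ := exists_gl_two h
      have hcard : Nat.card W = 2 ^ (Nat.card (GL (Fin 2) F)).factorization 2 := by
        rw [hWc, LinearGroup.card_GL_eq_units_mul_SL,
          Nat.factorization_mul Nat.card_pos.ne' Nat.card_pos.ne', Finsupp.add_apply,
          factorization_card_SL_two hF, LinearGroup.natCard_units_field, Nat.card_eq_fintype_card]
        have : (Fintype.card F - 1).factorization 2 = 1 := by
          obtain ⟨r, hr⟩ : ∃ r, Fintype.card F - 1 = 2 * (2 * r + 1) :=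
            ⟨(Fintype.card F - 1) / 4, by omega⟩
          rw [hr, Nat.factorization_mul (by omega) (by omega), Finsupp.add_apply,
            Nat.prime_two.factorization_self, Nat.factorization_eq_zero_of_not_dvd (by omega)]
        rw [this, add_comm]
      refine ⟨(Sylow.ofCard W hcard).mapSurjective ProjGenLinGroup.mk_surjective, ?_⟩
      have hW : ((Sylow.ofCard W hcard).mapSurjective ProjGenLinGroup.mk_surjective : Subgroup PGL(2, F)) =
          W.map ProjGenLinGroup.mk := by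
        rw [Sylow.coe_mapSurjective, Sylow.coe_ofCard]
      refine sqComm_congr (MulEquiv.subgroupCongr hW).symm fun y => ?_
      obtain ⟨g, rfl⟩ := MonoidHom.subgroupMap_surjective _ _ y
      exact sq_map_mem _ hWs g
  exact sqComm_congr (S₀.equiv S) hS₀

end Cfsg.Agent.BC85.G2
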