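import Cfsg.Agent.BC85.G2.Model
import Cfsg.Agent.BC85.G2.PGLSylow

/-!
# Sylow 2-subgroups of `G₂(q)`, `q` odd
-/

set_option autoImplicit false
set_option linter.style.longLine false

namespace Cfsg.Agent.BC85.G2

open Matrix Cfsg.Agent.SylTwo
open scoped MatrixGroups

variable {F : Type*} [Field F]

local notation "M₂" => Matrix (Fin 2) (Fin 2) F

/-- What commutes with two anticommuting square roots of `-1` is scalar. -/
theorem scalar_of_commute (h2 : (2 : F) ≠ 0) {i j X : Matrix (Fin 2) (Fin 2) F}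
    (hi : i * i = -1) (hij : i * j = -(j * i)) (hj : j * j = -1)
    (hXi : X * i = i * X) (hXj : X * j = j * X) : ∃ c : F, X = c • 1 := by
  have htr : trace (i : Matrix (Fin 2) (Fin 2) F) = 0 := by
    have h : trace (i : Matrix (Fin 2) (Fin 2) F) = -trace i := by
      calc trace i = trace (-(i * j * j)) := by rw [mul_assoc, hj, mul_neg, mul_one, neg_neg]
        _ = trace (j * i * j) := by rw [hij, neg_mul, neg_neg]
        _ = trace (i * j * j) := by rw [mul_assoc, trace_mul_comm, mul_assoc]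
        _ = _ := by rw [mul_assoc, hj, mul_neg, mul_one, trace_neg]
    exact (mul_eq_zero.mp (show (2 : F) * trace i = 0 by linear_combination h)).resolve_left h2
  rw [trace_fin_two] at htr
  have key : ∃ a b : F, X = a • 1 + b • i := by
    have e00 := congrFun (congrFun hXi 0) 0
    have e01 := congrFun (congrFun hXi 0) 1
    have e10 := congrFun (congrFun hXi 1) 0
    have s00 := congrFun (congrFun hi 0) 0
    simp [Matrix.mul_apply, Fin.sum_univ_two] at e00 e01 e10 s00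
    have h11 : i 1 1 = -i 0 0 := by linear_combination htr
    by_cases hb : i 0 1 = 0
    · by_cases hc : i 1 0 = 0
      · have ha : i 0 0 ≠ 0 := fun ha => by rw [ha, hb] at s00; simp at s00
        refine ⟨(X 0 0 + X 1 1) / 2, (X 0 0 - X 1 1) / (2 * i 0 0), ?_⟩
        have hX01 : X 0 1 = 0 := by
          refine (mul_eq_zero.mp (show (2 * i 0 0) * X 0 1 = 0 from ?_)).resolve_left (mul_ne_zero h2 ha)
          rw [h11, hb] at e01
          linear_combination -e01
        have hX10 : X 1 0 = 0 := by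
          refine (mul_eq_zero.mp (show (2 * i 0 0) * X 1 0 = 0 from ?_)).resolve_left (mul_ne_zero h2 ha)
          rw [h11, hc] at e10
          linear_combination e10
        ext r s
        fin_cases r <;> fin_cases s <;> simp [hX01, hX10, hb, hc, h11] <;> field_simp <;> ring
      · refine ⟨X 0 0 - X 1 0 / i 1 0 * i 0 0, X 1 0 / i 1 0, ?_⟩
        rw [h11] at e10
        have hX01 : X 0 1 = 0 := (mul_eq_zero.mp
          (show X 0 1 * i 1 0 = 0 by rw [hb] at e00; linear_combination e00)).resolve_right hc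
        ext r s
        fin_cases r <;> fin_cases s <;> simp [hb, h11, hX01] <;> try field_simp
        linear_combination e10
    · refine ⟨X 0 0 - X 0 1 / i 0 1 * i 0 0, X 0 1 / i 0 1, ?_⟩
      rw [h11] at e01
      ext r s
      fin_cases r <;> fin_cases s <;> simp [h11] <;> field_simp
      · linear_combination -e00
      · linear_combination -e01
  obtain ⟨a, b, rfl⟩ := key
  refine ⟨a, ?_⟩
  have h : b • (i * j) = b • (j * i) := by
    simpa [add_mul, mul_add, smul_mul_assoc, mul_smul_comm] using hXj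
  rw [hij, smul_neg] at h
  have h' : (2 * b) • (j * i) = 0 := by
    rw [mul_smul, two_smul, ← neg_eq_iff_add_eq_zero]
    exact h
  have hji : j * i ≠ 0 := fun h0 => by
    have e : j * (j * i) * i = 1 := by
      rw [← mul_assoc, hj, neg_one_mul, neg_mul, hi, neg_neg]
    rw [h0] at e
    simp at e
  have hb : b = 0 :=
    (mul_eq_zero.mp ((smul_eq_zero.mp h').resolve_right hji)).resolve_left h2
  rw [hb, zero_smul, add_zero]

variable [Fintype F]

theorem sl_sq_eq_one (h2 : (2 : F) ≠ 0) {x : SL(2, F)} (h : x * x = 1) : x = 1 ∨ x = -1 := by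
  have h' : (x : Matrix (Fin 2) (Fin 2) F) = adjugate (x : Matrix (Fin 2) (Fin 2) F) := by
    calc (x : Matrix (Fin 2) (Fin 2) F)
        = adjugate (x : M₂) * (x : M₂) * (x : M₂) := by rw [adjugate_mul_sl, one_mul]
      _ = _ := by rw [mul_assoc, ← Matrix.SpecialLinearGroup.coe_mul, h, Matrix.SpecialLinearGroup.coe_one, mul_one]
  rw [adjugate_fin_two] at h'
  have e00 := congrFun (congrFun h' 0) 0
  have e01 := congrFun (congrFun h' 0) 1
  have e10 := congrFun (congrFun h' 1) 0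
  simp at e00 e01 e10
  have z01 : x.1 0 1 = 0 :=
    (mul_eq_zero.mp (show (2 : F) * x.1 0 1 = 0 by linear_combination e01)).resolve_left h2
  have z10 : x.1 1 0 = 0 :=
    (mul_eq_zero.mp (show (2 : F) * x.1 1 0 = 0 by linear_combination e10)).resolve_left h2
  have hd := x.det_coe
  rw [Matrix.det_fin_two, z01, ← e00, zero_mul, sub_zero] at hd
  rcases mul_self_eq_one_iff.mp hd with ha | ha
  · refine Or.inl (Matrix.SpecialLinearGroup.ext _ _ fun r s => ?_)
    fin_cases r <;> fin_cases s <;> simp [z01, z10, ← e00, ha]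
  · refine Or.inr (Matrix.SpecialLinearGroup.ext _ _ fun r s => ?_)
    fin_cases r <;> fin_cases s <;> simp [z01, z10, ← e00, ha]

/-- A Sylow 2-subgroup of `SL₂` contains two anticommuting square roots of `-1`. -/
theorem exists_anticommuting (hF : Odd (Fintype.card F)) (Q : Sylow 2 SL(2, F)) :
    ∃ i ∈ Q, ∃ j ∈ Q, (i : M₂) * (i : M₂) = -1 ∧ (i : M₂) * (j : M₂) = -((j : M₂) * (i : M₂)) ∧
      (j : M₂) * (j : M₂) = -1 := by
  obtain ⟨k, hk, ⟨e⟩⟩ := LinearGroup.quaternion_sylow_SL_two (odd_natCard hF) Q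
  haveI : NeZero (2 ^ k) := ⟨by positivity⟩
  obtain ⟨l, rfl⟩ : ∃ l, k = l + 1 := ⟨k - 1, by omega⟩
  have h2 := two_ne_zero_of_odd_card hF
  let x : QuaternionGroup (2 ^ (l + 1)) := .a (2 ^ l : ℕ)
  let y : QuaternionGroup (2 ^ (l + 1)) := .xa 0
  have inv_a : x⁻¹ = QuaternionGroup.a (-((2 ^ l : ℕ) : ZMod (2 * 2 ^ (l + 1)))) := rfl
  have hx2 : x * x = QuaternionGroup.a ((2 ^ (l + 1) : ℕ) : ZMod (2 * 2 ^ (l + 1))) := by
    rw [QuaternionGroup.a_mul_a]
    congr 1
    push_cast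
    ring
  have hy2 : y * y = QuaternionGroup.a ((2 ^ (l + 1) : ℕ) : ZMod (2 * 2 ^ (l + 1))) := by
    rw [QuaternionGroup.xa_mul_xa]
    congr 1
    simp
  have hxy : x * y = y * x * QuaternionGroup.a ((2 ^ (l + 1) : ℕ) : ZMod (2 * 2 ^ (l + 1))) := by
    have hz : ((2 ^ (l + 1) : ℕ) : ZMod (2 * 2 ^ (l + 1))) + ((2 ^ (l + 1) : ℕ) : ZMod (2 * 2 ^ (l + 1))) = 0 := by
      rw [← two_mul, ← ZMod.natCast_self (2 * 2 ^ (l + 1))]; push_cast; ring
    rw [QuaternionGroup.a_mul_xa, QuaternionGroup.xa_mul_a, QuaternionGroup.xa_mul_a]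
    congr 1
    push_cast at hz ⊢
    linear_combination -hz
  set z := QuaternionGroup.a ((2 ^ (l + 1) : ℕ) : ZMod (2 * 2 ^ (l + 1))) with hz
  have hz1 : z ≠ 1 := by
    rw [hz, QuaternionGroup.one_def, ne_eq, QuaternionGroup.a.injEq, ZMod.natCast_eq_zero_iff]
    intro h
    have := Nat.le_of_dvd (by positivity) h
    have : 0 < 2 ^ (l + 1) := by positivity
    omega
  have hzz : z * z = 1 := by
    rw [hz, QuaternionGroup.a_mul_a, QuaternionGroup.one_def, ← Nat.cast_add, ← two_mul,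
      ZMod.natCast_self]
  have hneg : ((e.symm z : (Q : Subgroup SL(2, F))) : SL(2, F)) = -1 := by
    rcases sl_sq_eq_one h2 (x := ((e.symm z : (Q : Subgroup SL(2, F))) : SL(2, F)))
      (by rw [← Subgroup.coe_mul, ← map_mul, hzz, map_one, Subgroup.coe_one]) with h | h
    · exact absurd (e.symm.map_eq_one_iff.mp (Subtype.ext h)) hz1
    · exact h
  have key : ∀ u v w : QuaternionGroup (2 ^ (l + 1)), u * v = w →
      ((e.symm u : (Q : Subgroup SL(2, F))) : SL(2, F)) * (e.symm v : (Q : Subgroup SL(2, F))) =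
        (e.symm w : (Q : Subgroup SL(2, F))) := by
    intro u v w h
    rw [← h, map_mul, Subgroup.coe_mul]
  refine ⟨_, (e.symm x).2, _, (e.symm y).2, ?_, ?_, ?_⟩
  · have := congrArg (fun g : SL(2, F) => (g : M₂)) (key _ _ _ hx2)
    simpa [hneg] using this
  · have h' := key _ _ _ hxy
    rw [← key (y * x) z _ rfl, ← key y x _ rfl, hneg] at h'
    have := congrArg (fun g : SL(2, F) => (g : M₂)) h'
    simpa using this
  · have := congrArg (fun g : SL(2, F) => (g : M₂)) (key _ _ _ hy2)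
    simpa [hneg] using this

/-- A Sylow 2-subgroup of `G₂(q)` with all squares in its derived subgroup. -/
theorem exists_sqComm_sylow_G2 (hF : Odd (Fintype.card F)) :
    ∃ T : Sylow 2 (Cfsg.Lie.G2 F), SqComm ↥(T : Subgroup (Cfsg.Lie.G2 F)) := by
  haveI : Fact (Nat.Prime 2) := ⟨Nat.prime_two⟩
  have h2 := two_ne_zero_of_odd_card hF
  obtain ⟨D⟩ : Nonempty (Sylow 2 PGL(2, F)) := inferInstance
  set π : SL(2, F) →* PGL(2, F) := Matrix.SpecialLinearGroup.toPGL
  set Q : Subgroup SL(2, F) := (D : Subgroup PGL(2, F)).comap π with hQ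
  have hker : IsPGroup 2 π.ker := by
    rintro ⟨x, hx⟩
    rw [Matrix.SpecialLinearGroup.toPGL_ker, Matrix.SpecialLinearGroup.mem_center_iff] at hx
    obtain ⟨r, hr, hrx⟩ := hx
    refine ⟨1, Subtype.ext (Subtype.ext ?_)⟩
    rw [Fintype.card_fin] at hr
    show ((x ^ 2 ^ 1 : SL(2, F)) : M₂) = 1
    rw [Matrix.SpecialLinearGroup.coe_pow, ← hrx, ← map_pow, pow_one, hr, map_one]
  have hQp : IsPGroup 2 Q := D.2.comap_of_ker_isPGroup π hker
  have hN : π.range.Normal := ⟨by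
    rintro _ ⟨p, rfl⟩ c
    obtain ⟨g, rfl⟩ := ProjGenLinGroup.mk_surjective c
    exact ⟨conjSL g p, toPGL_conjSL g p⟩⟩
  have hQi : ¬ 2 ∣ Q.index := by
    obtain ⟨S⟩ : Nonempty (Sylow 2 π.range) := inferInstance
    obtain ⟨e⟩ := nonempty_equiv_sylow_normal (D : Subgroup PGL(2, F)).subtype
      Subtype.coe_injective D.card_eq_multiplicity π.range S
    have hc : Nat.card ((D : Subgroup PGL(2, F)).subgroupOf π.range) = Nat.card S := by
      rw [← Nat.card_congr e.toEquiv]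
      exact Nat.card_congr
        ⟨fun x => ⟨⟨(x.1 : PGL(2, F)), x.2⟩, x.1.2⟩, fun x => ⟨⟨(x.1 : PGL(2, F)), x.2⟩, x.1.2⟩,
          fun _ => rfl, fun _ => rfl⟩
    have hi : ((D : Subgroup PGL(2, F)).subgroupOf π.range).index = (S : Subgroup π.range).index := by
      refine Nat.eq_of_mul_eq_mul_left (Nat.card_pos (α := S)) ?_
      rw [(S : Subgroup π.range).card_mul_index, ← hc, Subgroup.card_mul_index]
    rw [hQ, Subgroup.index_comap]
    show ¬ 2 ∣ ((D : Subgroup PGL(2, F)).subgroupOf π.range).index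
    rw [hi]
    exact S.not_dvd_index
  let QS : Sylow 2 SL(2, F) := hQp.toSylow hQi
  have hQsq : SqComm Q := by
    obtain ⟨k, hk, ⟨e⟩⟩ := LinearGroup.quaternion_sylow_SL_two (odd_natCard hF) QS
    haveI : NeZero (2 ^ k) := ⟨by positivity⟩
    exact sqComm_congr e.symm (quat_sqComm ((Nat.even_pow' (by omega)).2 even_two))
  obtain ⟨i, hi, j, hj, hii, hij, hjj⟩ := exists_anticommuting hF QS
  set A := Q.map (iota (F := F))
  set B := (D : Subgroup PGL(2, F)).map (tau (F := F))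
  have hnorm : B ≤ Subgroup.normalizer (A : Set (Cfsg.Lie.G2 F)) := by
    rintro _ ⟨c, hc, rfl⟩
    have h1 : ∀ c ∈ (D : Subgroup PGL(2, F)), ∀ a ∈ A, tau c * a * (tau c)⁻¹ ∈ A := by
      rintro c hc _ ⟨q, hq, rfl⟩
      obtain ⟨g, rfl⟩ := ProjGenLinGroup.mk_surjective c
      rw [tau_iota]
      refine ⟨_, ?_, rfl⟩
      show π _ ∈ (D : Subgroup PGL(2, F))
      rw [show π (conjSL g q) = _ from toPGL_conjSL g q]
      exact mul_mem (mul_mem hc hq) (inv_mem hc)
    refine Subgroup.mem_normalizer_iff.mpr fun a => ⟨h1 c hc a, fun h => ?_⟩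
    have := h1 c⁻¹ (inv_mem hc) _ h
    rwa [map_inv, inv_inv, show (tau c)⁻¹ * (tau c * a * (tau c)⁻¹) * tau c = a by group] at this
  have hTp : IsPGroup 2 (A ⊔ B : Subgroup _) :=
    IsPGroup.to_sup_of_normal_left' (hQp.map _) (D.2.map _) hnorm
  have hTmem : ∀ x ∈ A ⊔ B, ∃ q ∈ Q, ∃ c ∈ (D : Subgroup PGL(2, F)), x = iota q * tau c := by
    intro x hx
    rw [← SetLike.mem_coe, Subgroup.coe_mul_of_right_le_normalizer_left _ _ hnorm] at hx
    obtain ⟨_, ⟨q, hq, rfl⟩, _, ⟨c, hc, rfl⟩, rfl⟩ := hx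
    exact ⟨q, hq, c, hc, rfl⟩
  have hQA : ∀ q ∈ Q, iota q ∈ A ⊔ B := fun q hq => Subgroup.mem_sup_left ⟨q, hq, rfl⟩
  have hDB : ∀ c ∈ (D : Subgroup PGL(2, F)), tau c ∈ A ⊔ B := fun c hc => Subgroup.mem_sup_right ⟨c, hc, rfl⟩
  have hz₀ : z₀ ∈ A ⊔ B := hQA _ (by
    show π (-1) ∈ (D : Subgroup PGL(2, F))
    rw [show π (-1) = 1 from ?_]
    · exact one_mem _
    · refine ProjGenLinGroup.mk_eq_one.mpr (Subgroup.mem_center_iff.mpr fun g => Units.ext ?_)
      simp)
  have hTC : A ⊔ B ≤ Subgroup.centralizer ({z₀} : Set (Cfsg.Lie.G2 F)) := by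
    intro x hx
    obtain ⟨q, -, c, -, rfl⟩ := hTmem x hx
    exact iota_tau_mem_centralizer q c
  -- the centre of the group has only one involution
  have hcent : ∀ x ∈ A ⊔ B, x * x = 1 → (∀ y ∈ A ⊔ B, x * y = y * x) → x = 1 ∨ x = z₀ := by
    intro x hx hxx hcomm
    obtain ⟨p, hp, c, hc, rfl⟩ := hTmem x hx
    obtain ⟨g, rfl⟩ := ProjGenLinGroup.mk_surjective c
    have hsl : ∀ q ∈ Q, ((p : M₂) * (g : M₂)) * (q : M₂) = (q : M₂) * ((p : M₂) * (g : M₂)) := by
      intro q hq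
      have h := hcomm _ (hQA q hq)
      have h' := tau_iota g q
      rw [mul_inv_eq_iff_eq_mul] at h'
      rw [mul_assoc, h', ← mul_assoc, ← map_mul, ← mul_assoc, ← map_mul] at h
      have h'' := congrArg (fun a : SL(2, F) => (a : M₂) * (g : M₂)) (iota_mul_tau_inj h).1
      simp only [Matrix.SpecialLinearGroup.coe_mul] at h''
      simpa [conjSL, mul_assoc] using h''
    obtain ⟨s, hs⟩ := scalar_of_commute h2 hii hij hjj (hsl i hi) (hsl j hj)
    have hcp : ProjGenLinGroup.mk g = (π p)⁻¹ := by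
      rw [eq_inv_iff_mul_eq_one]
      show ProjGenLinGroup.mk g * ProjGenLinGroup.mk _ = 1
      rw [← map_mul]
      refine commute_scalar fun a => ?_
      have hgp : (g : M₂) * (p : M₂) = s • 1 := by
        calc (g : M₂) * (p : M₂) = adjugate (p : M₂) * ((p : M₂) * g) * p := by
              rw [← mul_assoc, adjugate_mul_sl, one_mul]
          _ = _ := by rw [hs, mul_smul_comm, mul_one, smul_mul_assoc, adjugate_mul_sl]
      show ((g : M₂) * (p : M₂)) * a = a * ((g : M₂) * (p : M₂))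
      simp [hgp]
    have hpp : ∀ q ∈ Q, (p : M₂) * (q : M₂) = (q : M₂) * (p : M₂) := by
      intro q hq
      have hd : π q ∈ (D : Subgroup PGL(2, F)) := hq
      have h := hcomm _ (hDB _ hd)
      have h' := tau_iota (Matrix.SpecialLinearGroup.toGL q) p
      rw [mul_inv_eq_iff_eq_mul] at h'
      have h1 : iota p * tau (ProjGenLinGroup.mk g * π q) =
          iota (conjSL (Matrix.SpecialLinearGroup.toGL q) p) * tau (π q * ProjGenLinGroup.mk g) := by
        rw [map_mul, map_mul, ← mul_assoc, h, ← mul_assoc, ← mul_assoc]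
        congr 1
      have h'' := congrArg (fun a : SL(2, F) => (a : M₂) * (q : M₂)) (iota_mul_tau_inj h1).1
      simpa [conjSL, mul_assoc, adjugate_mul_sl] using h''
    obtain ⟨r, hr⟩ := scalar_of_commute h2 hii hij hjj (hpp i hi) (hpp j hj)
    have hπ : π p = 1 := commute_scalar fun a => by
      show (p : M₂) * a = a * (p : M₂)
      simp [hr]
    rw [hπ, inv_one] at hcp
    rw [hcp, map_one, mul_one, ← map_mul] at hxx
    have hp1 : p * p = 1 :=
      (iota_mul_tau_inj (c := 1) (c' := 1) (p' := 1) (by rw [hxx, map_one, map_one])).1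
    rw [hcp, map_one, mul_one]
    rcases sl_sq_eq_one h2 hp1 with rfl | rfl
    · exact Or.inl (map_one _)
    · exact Or.inr rfl
  -- maximal in the centralizer
  have hmaxC : ∀ P : Subgroup (Cfsg.Lie.G2 F), IsPGroup 2 P → A ⊔ B ≤ P →
      P ≤ Subgroup.centralizer ({z₀} : Set (Cfsg.Lie.G2 F)) → P ≤ A ⊔ B := by
    intro P hP hTP hPC
    have hex : ∀ x : P, ∃ pc : SL(2, F) × PGL(2, F), (x : Cfsg.Lie.G2 F) = iota pc.1 * tau pc.2 := fun x => by
      obtain ⟨p, c, h⟩ := exists_eq_iota_mul_tau h2 (hPC x.2)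
      exact ⟨(p, c), h⟩
    choose pc hpc using hex
    let ρ : P →* PGL(2, F) := MonoidHom.mk' (fun x => (pc x).2) fun x y => by
      obtain ⟨g, hg⟩ := ProjGenLinGroup.mk_surjective (pc x).2
      have h' := tau_iota g (pc y).1
      rw [mul_inv_eq_iff_eq_mul] at h'
      refine (iota_mul_tau_inj (p := (pc (x * y)).1) (p' := (pc x).1 * conjSL g (pc y).1) ?_).2
      rw [← hpc, Subgroup.coe_mul, hpc x, hpc y, map_mul, map_mul, ← hg, mul_assoc, ← mul_assoc _ (iota (pc y).1), h']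
      simp only [mul_assoc]
    have hρ : IsPGroup 2 ρ.range := hP.of_surjective ρ.rangeRestrict ρ.rangeRestrict_surjective
    have hρD : ρ.range = (D : Subgroup PGL(2, F)) := D.3 hρ fun c hc => by
      refine ⟨⟨tau c, hTP (hDB c hc)⟩, ?_⟩
      show (pc _).2 = c
      exact (iota_mul_tau_inj (p := (pc _).1) (p' := 1)
        (by rw [← hpc, map_one, one_mul])).2
    set Q' := P.comap (iota (F := F)) with hQ'
    have hQ'p : IsPGroup 2 Q' := by
      intro x
      obtain ⟨k, hk⟩ := hP ⟨iota x, x.2⟩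
      refine ⟨k, Subtype.ext ?_⟩
      have hk' : iota ((x : SL(2, F)) ^ 2 ^ k) = 1 := by
        rw [map_pow]; exact congrArg Subtype.val hk
      exact (iota_mul_tau_inj (c := 1) (c' := 1) (p' := 1) (by rw [Subgroup.coe_pow, hk', map_one, map_one])).1
    have hQQ' : Q ≤ Q' := fun q hq => hTP (hQA q hq)
    have hQeq : Q' = Q := QS.3 hQ'p hQQ'
    intro x hx
    have hc : (pc ⟨x, hx⟩).2 ∈ (D : Subgroup PGL(2, F)) := hρD ▸ (⟨⟨x, hx⟩, rfl⟩ : (pc ⟨x, hx⟩).2 ∈ ρ.range)
    have hp : (pc ⟨x, hx⟩).1 ∈ Q' := by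
      show iota (pc ⟨x, hx⟩).1 ∈ P
      rw [eq_mul_inv_of_mul_eq (hpc ⟨x, hx⟩).symm]
      exact mul_mem hx (inv_mem (hTP (hDB _ hc)))
    rw [show x = _ from hpc ⟨x, hx⟩]
    exact mul_mem (hQA _ (hQeq ▸ hp)) (hDB _ hc)
  -- maximal
  obtain ⟨S, hS⟩ := hTp.exists_le_sylow
  have heq : A ⊔ B = (S : Subgroup (Cfsg.Lie.G2 F)) := by
    by_contra hne
    have hlt : (A ⊔ B).subgroupOf (S : Subgroup (Cfsg.Lie.G2 F)) < ⊤ :=
      lt_top_iff_ne_top.mpr fun h => hne (le_antisymm hS (Subgroup.subgroupOf_eq_top.mp h))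
    haveI : Group.IsNilpotent (S : Subgroup (Cfsg.Lie.G2 F)) := S.2.isNilpotent
    have hN := Group.normalizerCondition_of_isNilpotent _ hlt
    obtain ⟨g, hgN, hgT⟩ := SetLike.exists_of_lt hN
    have hnorm' : ∀ y, y ∈ A ⊔ B ↔ (g : Cfsg.Lie.G2 F) * y * (g : Cfsg.Lie.G2 F)⁻¹ ∈ A ⊔ B := by
      intro y
      constructor
      · intro hy
        have h := (Subgroup.mem_normalizer_iff.mp hgN ⟨y, hS hy⟩).mp hy
        exact h
      · intro hy
        have hyS : y ∈ (S : Subgroup (Cfsg.Lie.G2 F)) := by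
          have := mul_mem (mul_mem (inv_mem g.2) (hS hy)) g.2
          rwa [show (g : Cfsg.Lie.G2 F)⁻¹ * ((g : Cfsg.Lie.G2 F) * y * (g : Cfsg.Lie.G2 F)⁻¹) * g = y by group] at this
        exact (Subgroup.mem_normalizer_iff.mp hgN ⟨y, hyS⟩).mpr hy
    have hgC : (g : Cfsg.Lie.G2 F) ∈ Subgroup.centralizer ({z₀} : Set (Cfsg.Lie.G2 F)) := by
      rw [Subgroup.mem_centralizer_singleton_iff]
      rcases hcent _ ((hnorm' z₀).mp hz₀) (by
          rw [show ∀ a b : Cfsg.Lie.G2 F, a * b * a⁻¹ * (a * b * a⁻¹) = a * (b * b) * a⁻¹ from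
            fun a b => by group, z₀_mul_self, mul_one, mul_inv_cancel]) (fun y hy => by
          have hy' : (g : Cfsg.Lie.G2 F)⁻¹ * y * g ∈ A ⊔ B := (hnorm' _).mpr (by
            rwa [show (g : Cfsg.Lie.G2 F) * ((g : Cfsg.Lie.G2 F)⁻¹ * y * g) * (g : Cfsg.Lie.G2 F)⁻¹ = y by group])
          have hc := Subgroup.mem_centralizer_singleton_iff.mp (hTC hy')
          calc (g : Cfsg.Lie.G2 F) * z₀ * (g : Cfsg.Lie.G2 F)⁻¹ * y
              = (g : Cfsg.Lie.G2 F) * (z₀ * ((g : Cfsg.Lie.G2 F)⁻¹ * y * (g : Cfsg.Lie.G2 F))) * (g : Cfsg.Lie.G2 F)⁻¹ := by group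
            _ = _ := by rw [← hc]; group) with h | h
      · exact absurd (conj_eq_one_iff.mp h) (z₀_ne_one h2)
      · exact (mul_inv_eq_iff_eq_mul.mp h)
    refine hgT (hmaxC ((A ⊔ B) ⊔ Subgroup.zpowers (g : Cfsg.Lie.G2 F))
      (S.2.to_le (sup_le hS (Subgroup.zpowers_le.mpr g.2))) le_sup_left
      (sup_le hTC (Subgroup.zpowers_le.mpr hgC)) (Subgroup.mem_sup_right (Subgroup.mem_zpowers _)))
  refine ⟨S, sqComm_congr (MulEquiv.subgroupCongr heq) (sqComm_of_closure
    ((Subtype.val : (A ⊔ B : Subgroup _) → _) ⁻¹' ((A : Set (Cfsg.Lie.G2 F)) ∪ B)) ?_ ?_)⟩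
  · rw [eq_top_iff]
    rintro ⟨x, hx⟩ -
    obtain ⟨q, hq, c, hc, rfl⟩ := hTmem x hx
    exact mul_mem (Subgroup.subset_closure (show (⟨iota q, hQA q hq⟩ : (A ⊔ B : Subgroup _)) ∈ _ from
        Or.inl ⟨q, hq, rfl⟩))
      (Subgroup.subset_closure (show (⟨tau c, hDB c hc⟩ : (A ⊔ B : Subgroup _)) ∈ _ from
        Or.inr ⟨c, hc, rfl⟩))
  · rintro ⟨x, hx⟩ (h | h)
    · obtain ⟨q, hq, rfl⟩ := h
      exact sq_map_mem ((iota.comp Q.subtype).codRestrict (A ⊔ B) fun q => hQA q q.2) hQsq ⟨q, hq⟩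
    · obtain ⟨c, hc, rfl⟩ := h
      exact sq_map_mem ((tau.comp (D : Subgroup PGL(2, F)).subtype).codRestrict (A ⊔ B) fun c => hDB c c.2)
        (sqComm_sylow_PGL hF D) ⟨c, hc⟩

theorem sq_mem_commutator_of_sylow (hF : Odd (Fintype.card F)) (P : Sylow 2 (Cfsg.Lie.G2 F))
    (x : (P : Subgroup (Cfsg.Lie.G2 F))) : x ^ 2 ∈ commutator (P : Subgroup (Cfsg.Lie.G2 F)) := by
  haveI : Fact (Nat.Prime 2) := ⟨Nat.prime_two⟩
  obtain ⟨T, hT⟩ := exists_sqComm_sylow_G2 hF
  exact sqComm_congr (T.equiv P) hT x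

end Cfsg.Agent.BC85.G2
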